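import Cfsg.Agent.H389.R.Def
import Cfsg.Agent.S1159

/-!
# S3530: the element orders of `R × R` (helper417)
-/

set_option autoImplicit false
set_option linter.unusedSectionVars false

namespace Cfsg.Agent.H389.RSq

open Subgroup
open Cfsg.Agent.H389.JSq (Has)

universe u v

namespace OmH417

theorem pow_dvd_lcm {p k a b : ℕ} (hp : p.Prime) (ha : a ≠ 0) (hb : b ≠ 0) (h : p ^ k ∣ Nat.lcm a b) :
    p ^ k ∣ a ∨ p ^ k ∣ b := by
  rw [hp.pow_dvd_iff_le_factorization (Nat.lcm_ne_zero ha hb), Nat.factorization_lcm ha hb, Finsupp.sup_apply,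
    le_sup_iff] at h
  rw [hp.pow_dvd_iff_le_factorization ha, hp.pow_dvd_iff_le_factorization hb]
  exact h

theorem prime_dvd_lcm {p a b : ℕ} (hp : p.Prime) (h : p ∣ Nat.lcm a b) : p ∣ a ∨ p ∣ b :=
  (Nat.Prime.dvd_mul hp).1 (h.trans (Nat.lcm_dvd_mul a b))

/-- the element orders of `²G₂(3^(2m+1))` -/
def Rd (m d : ℕ) : Prop := d ∣ 6 ∨ d ∣ 9 ∨ d ∣ 3 ^ (2 * m + 1) - 1 ∨ d ∣ (3 ^ (2 * m + 1) + 1) / 2 ∨
  d ∣ 3 ^ (2 * m + 1) - 3 ^ (m + 1) + 1 ∨ d ∣ 3 ^ (2 * m + 1) + 3 ^ (m + 1) + 1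

theorem mod8 (m : ℕ) : 3 ^ (2 * m + 1) % 8 = 3 := by
  rw [pow_succ, pow_mul, Nat.mul_mod, Nat.pow_mod]
  norm_num

theorem todd (m : ℕ) : 3 ^ (m + 1) % 2 = 1 := by
  rw [Nat.pow_mod]; norm_num

theorem three_q (m : ℕ) : 3 ∣ 3 ^ (2 * m + 1) := dvd_pow_self 3 (by omega)
theorem three_t (m : ℕ) : 3 ∣ 3 ^ (m + 1) := dvd_pow_self 3 (by omega)
theorem t_le (m : ℕ) : 3 ^ (m + 1) ≤ 3 ^ (2 * m + 1) := Nat.pow_le_pow_right (by norm_num) (by omega)
theorem one_le_q (m : ℕ) : 1 ≤ 3 ^ (2 * m + 1) := Nat.one_le_pow _ _ (by norm_num)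

theorem sq_t (m : ℕ) (R : Type) [CommRing R] : ((3 ^ (m + 1) : ℕ) : R) ^ 2 = 3 * ((3 ^ (2 * m + 1) : ℕ) : R) := by
  push_cast
  ring

section

variable {m p : ℕ} (hp : p.Prime)
include hp

theorem three_ne (h : p ≠ 3) : ((3 : ℕ) : ZMod p) ≠ 0 := by
  rw [Ne, ZMod.natCast_eq_zero_iff]
  intro h1
  exact h ((Nat.prime_dvd_prime_iff_eq hp Nat.prime_three).1 h1)

theorem two_ne (h : p ≠ 2) : ((2 : ℕ) : ZMod p) ≠ 0 := by
  rw [Ne, ZMod.natCast_eq_zero_iff]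
  intro h1
  exact h ((Nat.prime_dvd_prime_iff_eq hp Nat.prime_two).1 h1)

theorem ne_three_one (h : p ∣ 3 ^ (2 * m + 1) - 1) : p ≠ 3 := by
  rintro rfl
  have := three_q m
  have := one_le_q m
  omega

theorem ne_three_two (h : p ∣ 3 ^ (2 * m + 1) + 1) : p ≠ 3 := by
  rintro rfl
  have := three_q m
  omega

theorem ne_three_three (h : p ∣ 3 ^ (2 * m + 1) - 3 ^ (m + 1) + 1) : p ≠ 3 := by
  rintro rfl
  have := three_q m
  have := three_t m
  have := t_le m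
  omega

theorem ne_three_four (h : p ∣ 3 ^ (2 * m + 1) + 3 ^ (m + 1) + 1) : p ≠ 3 := by
  rintro rfl
  have := three_q m
  have := three_t m
  omega

theorem z_one (h : p ∣ 3 ^ (2 * m + 1) - 1) : ((3 ^ (2 * m + 1) : ℕ) : ZMod p) = 1 := by
  have h1 := (ZMod.natCast_eq_zero_iff _ _).2 h
  rw [Nat.cast_sub (one_le_q m), Nat.cast_one] at h1
  exact sub_eq_zero.1 h1

theorem z_two (h : p ∣ 3 ^ (2 * m + 1) + 1) : ((3 ^ (2 * m + 1) : ℕ) : ZMod p) = -1 := by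
  have h1 := (ZMod.natCast_eq_zero_iff _ _).2 h
  rw [Nat.cast_add, Nat.cast_one] at h1
  exact eq_neg_of_add_eq_zero_left h1

theorem z_three (h : p ∣ 3 ^ (2 * m + 1) - 3 ^ (m + 1) + 1) :
    ((3 ^ (m + 1) : ℕ) : ZMod p) = ((3 ^ (2 * m + 1) : ℕ) : ZMod p) + 1 := by
  have h1 := (ZMod.natCast_eq_zero_iff _ _).2 h
  rw [Nat.cast_add, Nat.cast_sub (t_le m), Nat.cast_one] at h1
  linear_combination -h1

theorem z_four (h : p ∣ 3 ^ (2 * m + 1) + 3 ^ (m + 1) + 1) :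
    ((3 ^ (m + 1) : ℕ) : ZMod p) = -((3 ^ (2 * m + 1) : ℕ) : ZMod p) - 1 := by
  have h1 := (ZMod.natCast_eq_zero_iff _ _).2 h
  rw [Nat.cast_add, Nat.cast_add, Nat.cast_one] at h1
  linear_combination h1

theorem cls_one (h : p ∣ 3 ^ (2 * m + 1) - 1) : cls m p = 1 := by
  rw [cls, if_neg (ne_three_one hp h), if_pos h]

theorem not_one_of_two (h2 : p ≠ 2) (h : p ∣ 3 ^ (2 * m + 1) + 1) : ¬ p ∣ 3 ^ (2 * m + 1) - 1 := by
  intro h1
  have := Fact.mk hp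
  have h3 := z_one hp h1
  rw [z_two hp h] at h3
  apply two_ne hp h2
  push_cast
  linear_combination -h3

theorem cls_two (h2 : p ≠ 2) (h : p ∣ 3 ^ (2 * m + 1) + 1) : cls m p = 2 := by
  rw [cls, if_neg (ne_three_two hp h), if_neg (not_one_of_two hp h2 h), if_pos h]

theorem phi (h : p ∣ 3 ^ (2 * m + 1) - 3 ^ (m + 1) + 1 ∨ p ∣ 3 ^ (2 * m + 1) + 3 ^ (m + 1) + 1) :
    ((3 ^ (2 * m + 1) : ℕ) : ZMod p) ^ 2 - ((3 ^ (2 * m + 1) : ℕ) : ZMod p) + 1 = 0 := by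
  have h1 : ((3 ^ (m + 1) : ℕ) : ZMod p) ^ 2 = 3 * ((3 ^ (2 * m + 1) : ℕ) : ZMod p) := by
    push_cast
    ring
  rcases h with h | h
  · rw [z_three hp h] at h1
    linear_combination h1
  · rw [z_four hp h] at h1
    linear_combination h1

theorem not_one_of_phi (h : p ∣ 3 ^ (2 * m + 1) - 3 ^ (m + 1) + 1 ∨ p ∣ 3 ^ (2 * m + 1) + 3 ^ (m + 1) + 1) :
    ¬ p ∣ 3 ^ (2 * m + 1) - 1 := by
  intro h1
  have := Fact.mk hp
  have h3 := phi hp h
  rw [z_one hp h1] at h3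
  apply one_ne_zero (α := ZMod p)
  linear_combination h3

theorem not_two_of_phi (h : p ∣ 3 ^ (2 * m + 1) - 3 ^ (m + 1) + 1 ∨ p ∣ 3 ^ (2 * m + 1) + 3 ^ (m + 1) + 1) :
    ¬ p ∣ 3 ^ (2 * m + 1) + 1 := by
  intro h1
  have := Fact.mk hp
  have h3 := phi hp h
  rw [z_two hp h1] at h3
  apply three_ne hp (ne_three_two hp h1)
  push_cast
  linear_combination h3

theorem cls_three (h : p ∣ 3 ^ (2 * m + 1) - 3 ^ (m + 1) + 1) : cls m p = 3 := by
  rw [cls, if_neg (ne_three_three hp h), if_neg (not_one_of_phi hp (Or.inl h)), if_neg (not_two_of_phi hp (Or.inl h)),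
    if_pos h]

theorem cls_four (h2 : p ≠ 2) (h : p ∣ 3 ^ (2 * m + 1) + 3 ^ (m + 1) + 1) : cls m p = 4 := by
  rw [cls, if_neg (ne_three_four hp h), if_neg (not_one_of_phi hp (Or.inr h)), if_neg (not_two_of_phi hp (Or.inr h)),
    if_neg]
  intro h1
  have := Fact.mk hp
  have h3 := z_three hp h1
  have h4 := z_four hp h
  have h5 : ((2 : ℕ) : ZMod p) * (((3 ^ (2 * m + 1) : ℕ) : ZMod p) + 1) = 0 := by
    push_cast at h3 h4 ⊢
    linear_combination h4 - h3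
  have h6 := (mul_eq_zero.1 h5).resolve_left (two_ne hp h2)
  refine not_two_of_phi hp (Or.inr h) ((ZMod.natCast_eq_zero_iff _ _).1 ?_)
  rw [Nat.cast_add, Nat.cast_one]
  exact h6

theorem ne_two_of_cls (h : cls m p = 3 ∨ cls m p = 4) : p ≠ 2 := by
  rintro rfl
  have h1 : 2 ∣ 3 ^ (2 * m + 1) - 1 := by have := mod8 m; omega
  rw [cls_one hp h1] at h
  rcases h with h | h <;> revert h <;> decide

end

theorem odd_three (m : ℕ) : ¬ 2 ∣ 3 ^ (2 * m + 1) - 3 ^ (m + 1) + 1 := by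
  have := mod8 m
  have := todd m
  have := t_le m
  omega

theorem odd_four (m : ℕ) : ¬ 2 ∣ 3 ^ (2 * m + 1) + 3 ^ (m + 1) + 1 := by
  have := mod8 m
  have := todd m
  omega

/-- `3` divides neither of the last four -/
theorem not_three {m d : ℕ} (h : d ∣ 3 ^ (2 * m + 1) - 1 ∨ d ∣ (3 ^ (2 * m + 1) + 1) / 2 ∨
    d ∣ 3 ^ (2 * m + 1) - 3 ^ (m + 1) + 1 ∨ d ∣ 3 ^ (2 * m + 1) + 3 ^ (m + 1) + 1) : ¬ 3 ∣ d := by
  intro h3
  rcases h with h | h | h | h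
  · exact ne_three_one Nat.prime_three (h3.trans h) rfl
  · refine ne_three_two (m := m) Nat.prime_three ((h3.trans h).trans ?_) rfl
    have := mod8 m
    exact Nat.div_dvd_of_dvd (by omega)
  · exact ne_three_three Nat.prime_three (h3.trans h) rfl
  · exact ne_three_four Nat.prime_three (h3.trans h) rfl

theorem reeCard_eq (m : ℕ) : reeCard m = (3 ^ (2 * m + 1)) ^ 3 * ((3 ^ (2 * m + 1) + 1) *
    (3 ^ (2 * m + 1) - 3 ^ (m + 1) + 1) * (3 ^ (2 * m + 1) + 3 ^ (m + 1) + 1)) * (3 ^ (2 * m + 1) - 1) := by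
  rw [reeCard]
  congr 2
  have h1 : (3 ^ (m + 1)) ^ 2 = 3 * 3 ^ (2 * m + 1) := by ring
  obtain ⟨a, ha⟩ : ∃ a, 3 ^ (2 * m + 1) = 3 ^ (m + 1) + a := ⟨_, (Nat.add_sub_of_le (t_le m)).symm⟩
  have h2 : 3 ^ (2 * m + 1) - 3 ^ (m + 1) = a := by omega
  rw [h2]
  set t := 3 ^ (m + 1) with ht
  set q := 3 ^ (2 * m + 1) with hq
  have ha' : (a : ℤ) = q - t := by rw [ha]; push_cast; ring
  have h1' : (t : ℤ) ^ 2 = 3 * q := by exact_mod_cast h1
  zify
  rw [ha']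
  linear_combination (-((q : ℤ) + 1)) * (-h1')

theorem Rd.prm {m d p : ℕ} (h : Rd m d) (hp : p.Prime) (hpd : p ∣ d) : p ∣ reeCard m := by
  rw [reeCard_eq]
  rcases h with h | h | h | h | h | h
  · have h1 : p ∣ 2 * 3 := hpd.trans h
    rcases (Nat.Prime.dvd_mul hp).1 h1 with h2 | h2
    · rw [(Nat.prime_dvd_prime_iff_eq hp Nat.prime_two).1 h2]
      exact Dvd.dvd.mul_left (by have := mod8 m; omega) _
    · rw [(Nat.prime_dvd_prime_iff_eq hp Nat.prime_three).1 h2]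
      exact Dvd.dvd.mul_right (Dvd.dvd.mul_right (dvd_pow (three_q m) (by norm_num)) _) _
  · have h1 : p ∣ 3 ^ 2 := hpd.trans h
    rw [(Nat.prime_dvd_prime_iff_eq hp Nat.prime_three).1 (hp.dvd_of_dvd_pow h1)]
    exact Dvd.dvd.mul_right (Dvd.dvd.mul_right (dvd_pow (three_q m) (by norm_num)) _) _
  · exact Dvd.dvd.mul_left (hpd.trans h) _
  · have h1 : (3 ^ (2 * m + 1) + 1) / 2 ∣ 3 ^ (2 * m + 1) + 1 := Nat.div_dvd_of_dvd (by have := mod8 m; omega)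
    exact Dvd.dvd.mul_right (Dvd.dvd.mul_left (Dvd.dvd.mul_right (Dvd.dvd.mul_right ((hpd.trans h).trans h1) _) _) _) _
  · exact Dvd.dvd.mul_right (Dvd.dvd.mul_left (Dvd.dvd.mul_right (Dvd.dvd.mul_left (hpd.trans h) _) _) _) _
  · exact Dvd.dvd.mul_right (Dvd.dvd.mul_left (Dvd.dvd.mul_left (hpd.trans h) _) _) _

theorem Rd.four {m d : ℕ} (h : Rd m d) : ¬ 4 ∣ d := by
  intro h4
  have h8 := mod8 m
  rcases h with h | h | h | h | h | h
  · have := h4.trans h; omega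
  · have := h4.trans h; omega
  · have := h4.trans h
    generalize 3 ^ (2 * m + 1) = q at *
    omega
  · have := h4.trans h
    generalize 3 ^ (2 * m + 1) = q at *
    omega
  · exact odd_three m (((by norm_num : 2 ∣ 4).trans h4).trans h)
  · exact odd_four m (((by norm_num : 2 ∣ 4).trans h4).trans h)

theorem Rd.nine {m d : ℕ} (h : Rd m d) : ¬ 27 ∣ d := by
  intro h27
  rcases h with h | h | h
  · have := h27.trans h; omega
  · have := h27.trans h; omega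
  · exact not_three h ((by norm_num : 3 ∣ 27).trans h27)

theorem Rd.class {m d : ℕ} (h : Rd m d) : ∃ c, ∀ p : ℕ, p.Prime → p ≠ 2 → p ∣ d → cls m p = c := by
  rcases h with h | h | h | h | h | h
  · refine ⟨0, fun p hp hp2 hpd => ?_⟩
    have h1 : p ∣ 2 * 3 := hpd.trans h
    rcases (Nat.Prime.dvd_mul hp).1 h1 with h2 | h2
    · exact absurd ((Nat.prime_dvd_prime_iff_eq hp Nat.prime_two).1 h2) hp2
    · rw [(Nat.prime_dvd_prime_iff_eq hp Nat.prime_three).1 h2, cls, if_pos rfl]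
  · refine ⟨0, fun p hp hp2 hpd => ?_⟩
    have h1 : p ∣ 3 ^ 2 := hpd.trans h
    rw [(Nat.prime_dvd_prime_iff_eq hp Nat.prime_three).1 (hp.dvd_of_dvd_pow h1), cls, if_pos rfl]
  · exact ⟨1, fun p hp hp2 hpd => cls_one hp (hpd.trans h)⟩
  · have h1 : (3 ^ (2 * m + 1) + 1) / 2 ∣ 3 ^ (2 * m + 1) + 1 := Nat.div_dvd_of_dvd (by have := mod8 m; omega)
    exact ⟨2, fun p hp hp2 hpd => cls_two hp hp2 ((hpd.trans h).trans h1)⟩
  · exact ⟨3, fun p hp hp2 hpd => cls_three hp (hpd.trans h)⟩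
  · exact ⟨4, fun p hp hp2 hpd => cls_four hp hp2 (hpd.trans h)⟩

theorem Rd.odd {m d p : ℕ} (h : Rd m d) (hp : p.Prime) (hc : cls m p = 3 ∨ cls m p = 4) (hpd : p ∣ d) :
    ¬ 2 ∣ d ∧ ¬ 3 ∣ d := by
  have hp2 := ne_two_of_cls hp hc
  have hne : ∀ c : Fin 5, c ≠ 3 → c ≠ 4 → cls m p ≠ c := by
    intro c h3 h4 h5
    rcases hc with h6 | h6
    · exact h3 (h5.symm.trans h6)
    · exact h4 (h5.symm.trans h6)
  rcases h with h | h | h | h | h | h
  · exfalso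
    have h1 : p ∣ 2 * 3 := hpd.trans h
    rcases (Nat.Prime.dvd_mul hp).1 h1 with h2 | h2
    · exact absurd ((Nat.prime_dvd_prime_iff_eq hp Nat.prime_two).1 h2) hp2
    · exact hne 0 (by decide) (by decide) (by
        rw [(Nat.prime_dvd_prime_iff_eq hp Nat.prime_three).1 h2, cls, if_pos rfl])
  · exfalso
    have h1 : p ∣ 3 ^ 2 := hpd.trans h
    exact hne 0 (by decide) (by decide) (by
      rw [(Nat.prime_dvd_prime_iff_eq hp Nat.prime_three).1 (hp.dvd_of_dvd_pow h1), cls, if_pos rfl])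
  · exact absurd (cls_one hp (hpd.trans h)) (hne 1 (by decide) (by decide))
  · exfalso
    have h1 : (3 ^ (2 * m + 1) + 1) / 2 ∣ 3 ^ (2 * m + 1) + 1 := Nat.div_dvd_of_dvd (by have := mod8 m; omega)
    exact absurd (cls_two hp hp2 ((hpd.trans h).trans h1)) (hne 2 (by decide) (by decide))
  · exact ⟨fun h2 => odd_three m (h2.trans h), fun h3 => not_three (Or.inr (Or.inr (Or.inl h))) h3⟩
  · exact ⟨fun h2 => odd_four m (h2.trans h), fun h3 => not_three (Or.inr (Or.inr (Or.inr h))) h3⟩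

theorem Rd.nine_odd {m d : ℕ} (h : Rd m d) (h9 : 9 ∣ d) : ¬ 2 ∣ d := by
  intro h2
  rcases h with h | h | h
  · have := h9.trans h; omega
  · have := h2.trans h; omega
  · exact not_three h ((by norm_num : 3 ∣ 9).trans h9)

/-- the orders of `R × R` satisfy the constraints -/
theorem cl_of {m : ℕ} {X : Type*} [Group X] (h : ∀ g : X, ∃ a b, Rd m a ∧ Rd m b ∧ a ≠ 0 ∧ b ≠ 0 ∧ orderOf g = Nat.lcm a b) :
    Cl m X where
  prm g p hp hpg := by
    obtain ⟨a, b, ha, hb, -, -, hg⟩ := h g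
    rw [hg] at hpg
    rcases prime_dvd_lcm hp hpg with h1 | h1
    · exact ha.prm hp h1
    · exact hb.prm hp h1
  four g h4 := by
    obtain ⟨a, b, ha, hb, ha0, hb0, hg⟩ := h g
    rw [hg] at h4
    rcases pow_dvd_lcm (k := 2) Nat.prime_two ha0 hb0 h4 with h1 | h1
    · exact ha.four h1
    · exact hb.four h1
  nine g h4 := by
    obtain ⟨a, b, ha, hb, ha0, hb0, hg⟩ := h g
    rw [hg] at h4
    rcases pow_dvd_lcm (k := 3) Nat.prime_three ha0 hb0 h4 with h1 | h1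
    · exact ha.nine h1
    · exact hb.nine h1
  tri g p q r hp hq hr hp2 hq2 hr2 hpq hpr hqr hpg hqg hrg := by
    obtain ⟨a, b, ha, hb, -, -, hg⟩ := h g
    rw [hg] at hpg hqg hrg
    obtain ⟨c, hc⟩ := ha.class
    obtain ⟨c', hc'⟩ := hb.class
    rcases prime_dvd_lcm hp hpg with h1 | h1 <;> rcases prime_dvd_lcm hq hqg with h2 | h2 <;>
      rcases prime_dvd_lcm hr hrg with h3 | h3
    · exact hpq ((hc p hp hp2 h1).trans (hc q hq hq2 h2).symm)
    · exact hpq ((hc p hp hp2 h1).trans (hc q hq hq2 h2).symm)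
    · exact hpr ((hc p hp hp2 h1).trans (hc r hr hr2 h3).symm)
    · exact hqr ((hc' q hq hq2 h2).trans (hc' r hr hr2 h3).symm)
    · exact hqr ((hc q hq hq2 h2).trans (hc r hr hr2 h3).symm)
    · exact hpr ((hc' p hp hp2 h1).trans (hc' r hr hr2 h3).symm)
    · exact hpq ((hc' p hp hp2 h1).trans (hc' q hq hq2 h2).symm)
    · exact hpq ((hc' p hp hp2 h1).trans (hc' q hq hq2 h2).symm)
  two g p q hp hq hp3 hq4 hpg hqg h2g := by
    obtain ⟨a, b, ha, hb, -, -, hg⟩ := h g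
    rw [hg] at hpg hqg h2g
    obtain ⟨c, hc⟩ := ha.class
    obtain ⟨c', hc'⟩ := hb.class
    have hp2 := ne_two_of_cls hp (Or.inl hp3)
    have hq2 := ne_two_of_cls hq (Or.inr hq4)
    have hpq : cls m p ≠ cls m q := by rw [hp3, hq4]; decide
    rcases prime_dvd_lcm hp hpg with h1 | h1 <;> rcases prime_dvd_lcm hq hqg with h2 | h2
    · exact hpq ((hc p hp hp2 h1).trans (hc q hq hq2 h2).symm)
    · rcases prime_dvd_lcm Nat.prime_two h2g with h3 | h3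
      · exact (ha.odd hp (Or.inl hp3) h1).1 h3
      · exact (hb.odd hq (Or.inr hq4) h2).1 h3
    · rcases prime_dvd_lcm Nat.prime_two h2g with h3 | h3
      · exact (ha.odd hq (Or.inr hq4) h2).1 h3
      · exact (hb.odd hp (Or.inl hp3) h1).1 h3
    · exact hpq ((hc' p hp hp2 h1).trans (hc' q hq hq2 h2).symm)
  eighteen g p hp hpc hpg h18 := by
    obtain ⟨a, b, ha, hb, ha0, hb0, hg⟩ := h g
    rw [hg] at hpg h18
    have h9 : 3 ^ 2 ∣ Nat.lcm a b := (by norm_num : 3 ^ 2 ∣ 18).trans h18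
    have h2 : 2 ∣ Nat.lcm a b := (by norm_num : 2 ∣ 18).trans h18
    rcases prime_dvd_lcm hp hpg with h1 | h1
    · obtain ⟨h3, h4⟩ := ha.odd hp hpc h1
      have h5 : 9 ∣ b := (pow_dvd_lcm Nat.prime_three ha0 hb0 h9).resolve_left fun h6 =>
        h4 ((by norm_num : 3 ∣ 3 ^ 2).trans h6)
      exact hb.nine_odd h5 ((prime_dvd_lcm Nat.prime_two h2).resolve_left h3)
    · obtain ⟨h3, h4⟩ := hb.odd hp hpc h1
      have h5 : 9 ∣ a := (pow_dvd_lcm Nat.prime_three ha0 hb0 h9).resolve_right fun h6 =>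
        h4 ((by norm_num : 3 ∣ 3 ^ 2).trans h6)
      exact ha.nine_odd h5 ((prime_dvd_lcm Nat.prime_two h2).resolve_right h3)

/-- the odd primes of `reeCard` are element orders -/
theorem rd_of_prime {m p : ℕ} (hp : p.Prime) (hp2 : p ≠ 2) (h : p ∣ reeCard m) : Rd m p := by
  rw [reeCard_eq] at h
  rcases (Nat.Prime.dvd_mul hp).1 h with h | h
  · rcases (Nat.Prime.dvd_mul hp).1 h with h | h
    · have h1 : p ∣ 3 := hp.dvd_of_dvd_pow (hp.dvd_of_dvd_pow h)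
      exact Or.inl (h1.trans (by norm_num))
    · rcases (Nat.Prime.dvd_mul hp).1 h with h | h
      · rcases (Nat.Prime.dvd_mul hp).1 h with h | h
        · refine Or.inr (Or.inr (Or.inr (Or.inl ?_)))
          have h1 : 3 ^ (2 * m + 1) + 1 = 2 * ((3 ^ (2 * m + 1) + 1) / 2) := by have := mod8 m; omega
          rw [h1] at h
          exact ((Nat.Prime.dvd_mul hp).1 h).resolve_left fun h2 =>
            hp2 ((Nat.prime_dvd_prime_iff_eq hp Nat.prime_two).1 h2)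
        · exact Or.inr (Or.inr (Or.inr (Or.inr (Or.inl h))))
      · exact Or.inr (Or.inr (Or.inr (Or.inr (Or.inr h))))
  · exact Or.inr (Or.inr (Or.inl h))

end OmH417

open OmH417

theorem cl_of_range {m : ℕ} (hm : 1 ≤ m) {K : Type v} [Field K] [Fintype K]
    (hK : Fintype.card K = 3 ^ (2 * m + 1)) {G : Type u} [Group G] [Finite G]
    (h : Set.range (orderOf : G → ℕ) = Set.range (orderOf :
      ↥(Cfsg.Lie.twistedG2 K (3 ^ m)) × ↥(Cfsg.Lie.twistedG2 K (3 ^ m)) → ℕ)) :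
    Cl m G ∧ ∀ σ, Sig m σ → K5 σ G := by
  have hord : ∀ d, (∃ g : ↥(Cfsg.Lie.twistedG2 K (3 ^ m)), orderOf g = d) ↔ Rd m d :=
    fun d => Cfsg.Agent.S1159.result hm hK d
  have hfin : Finite (Matrix.GeneralLinearGroup (Cfsg.Lie.chevG2.Idx) K) := inferInstance
  have hfin2 : Finite ↥(Cfsg.Lie.twistedG2 K (3 ^ m)) := inferInstance
  constructor
  · refine cl_of fun g => ?_
    have h1 : orderOf g ∈ Set.range (orderOf : ↥(Cfsg.Lie.twistedG2 K (3 ^ m)) × ↥(Cfsg.Lie.twistedG2 K (3 ^ m)) → ℕ) := by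
      rw [← h]; exact ⟨g, rfl⟩
    obtain ⟨⟨x, y⟩, hxy⟩ := h1
    refine ⟨orderOf x, orderOf y, (hord _).1 ⟨x, rfl⟩, (hord _).1 ⟨y, rfl⟩, (orderOf_pos x).ne', (orderOf_pos y).ne', ?_⟩
    rw [← hxy, Prod.orderOf]
  · intro σ hσ i j hij
    obtain ⟨x, hx⟩ := (hord (σ i)).2 (rd_of_prime (hσ.prime i) (hσ.ne_two i) (hσ.dvd i))
    obtain ⟨y, hy⟩ := (hord (σ j)).2 (rd_of_prime (hσ.prime j) (hσ.ne_two j) (hσ.dvd j))
    have hne : σ i ≠ σ j := fun he => hij (by rw [← hσ.cls i, ← hσ.cls j, he])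
    have hcop : Nat.Coprime (σ i) (σ j) := (Nat.coprime_primes (hσ.prime i) (hσ.prime j)).2 hne
    have h1 : orderOf ((x, y) : ↥(Cfsg.Lie.twistedG2 K (3 ^ m)) × ↥(Cfsg.Lie.twistedG2 K (3 ^ m))) = σ i * σ j := by
      rw [Prod.orderOf, hx, hy]
      exact hcop.lcm_eq_mul
    have h2 : σ i * σ j ∈ Set.range (orderOf : G → ℕ) := by
      rw [h]; exact ⟨(x, y), h1⟩
    exact h2

end Cfsg.Agent.H389.RSq
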